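import Mathlib
import Cfsg.Agent.H323.OI.Pieces
import Cfsg.Agent.Lib.KleinGen
import Cfsg.Agent.Lib.Cores
import Cfsg.Agent.S0205

/-!
# S3325, piece 5b: `M` is normal and centralizes `O(G)` (helper71)

No induction is needed. Put `K = O(G)`, solvable by the odd order theorem. If `w = t ^ g` commutes with `M`, put
`D = C_K(w)`. Since `M` centralizes `C_K(t)`, `M ^ g` centralizes `D`; as `M ≤ M ^ g K`, the perfect group `M` acts on `D`
as a subgroup of the solvable group `N_K(D)`, so trivially. With `w ∈ {t, y, t y}` this gives `[M, K] = 1` by coprime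
action. Then `M` is the kernel of `M K → M K / M`, a solvable group.
-/

set_option autoImplicit false

namespace Cfsg.Agent.H71.OI

open Cfsg Subgroup

/-- a homomorphism from a perfect group with values in a solvable subgroup is trivial -/
theorem eq_one_of_solvable {A X : Type*} [Group A] [Group X] (hA : Group.IsPerfect A) (f : A →* X)
    (S : Subgroup X) (hS : Group.IsSolvable ↥S) (h : ∀ a, f a ∈ S) (a : A) : f a = 1 := by
  have h1 : Group.IsPerfect ↥(f.codRestrict S h).range := Group.IsPerfect.range _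
  have h2 : Group.IsSolvable ↥(f.codRestrict S h).range := inferInstance
  by_contra hne
  have h3 : Nontrivial ↥(f.codRestrict S h).range := by
    refine ⟨⟨⟨f.codRestrict S h a, a, rfl⟩, 1, fun e => hne ?_⟩⟩
    exact congrArg (fun z => ((z : ↥S) : X)) (congrArg Subtype.val e)
  exact Group.IsPerfect.not_isSolvable _ h2

/-- solvable subgroups have solvable images and traces -/
theorem solvable_map_subgroupOf {A X : Type*} [Group A] [Group X] (K N : Subgroup A)
    (hK : Group.IsSolvable ↥K) (f : ↥N →* X) : Group.IsSolvable ↥((K.subgroupOf N).map f) := by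
  have h1 : Group.IsSolvable ↥(K.subgroupOf N) := by
    refine Group.isSolvable_of_isSolvable_injective (f := N.subtype.subgroupComap K) ?_
    intro a b hab
    have e : (a.1.1 : A) = b.1.1 := congrArg (fun z : ↥K => (z : A)) hab
    exact Subtype.ext (Subtype.ext e)
  exact Group.isSolvable_of_surjective (f := f.subgroupMap (K.subgroupOf N)) (f.subgroupMap_surjective _)

section

variable {G : Type} [Group G] {M K : Subgroup G}

/-- the centralizer in `K` of a conjugate `w` of `t` which commutes with `M` -/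
theorem cent_conj (hM : Group.IsPerfect ↥M) (hKn : K.Normal) (hKs : Group.IsSolvable ↥K) {t w : G}
    (hn : (M ⊔ K).Normal) (h1 : ∀ k ∈ K, k * t = t * k → ∀ m ∈ M, m * k = k * m) (hw : IsConj t w)
    (hwM : w ∈ centralizer (M : Set G)) : K ⊓ centralizer {w} ≤ centralizer (M : Set G) := by
  obtain ⟨g, hg⟩ := isConj_iff.1 hw
  set D : Subgroup G := K ⊓ centralizer {w} with hD
  have memD : ∀ x, x ∈ D ↔ x ∈ K ∧ x * w = w * x := by
    intro x
    rw [hD, mem_inf, mem_centralizer_singleton_iff]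
  have hwm : ∀ m ∈ M, m * w = w * m := fun m hm => mem_centralizer_iff.1 hwM m hm
  -- `M` normalizes `D`
  have hMD : ∀ m ∈ M, ∀ x ∈ D, m * x * m⁻¹ ∈ D := by
    intro m hm x hx
    obtain ⟨hxK, hxw⟩ := (memD x).1 hx
    refine (memD _).2 ⟨hKn.conj_mem x hxK m, ?_⟩
    have e1 := hwm m hm
    have e2 := hwm m⁻¹ (M.inv_mem hm)
    calc m * x * m⁻¹ * w = m * x * (m⁻¹ * w) := by group
      _ = m * (x * w) * m⁻¹ := by rw [e2]; group
      _ = (m * w) * x * m⁻¹ := by rw [hxw]; group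
      _ = w * (m * x * m⁻¹) := by rw [e1]; group
  have hMN : ∀ m ∈ M, m ∈ normalizer (D : Set G) := by
    intro m hm
    rw [mem_normalizer_iff]
    intro x
    refine ⟨hMD m hm x, fun hx => ?_⟩
    have := hMD m⁻¹ (M.inv_mem hm) _ hx
    rwa [show m⁻¹ * (m * x * m⁻¹) * m⁻¹⁻¹ = x by group] at this
  -- `g M g⁻¹` centralizes `D`
  have hMg : ∀ m ∈ M, ∀ x ∈ D, g * m * g⁻¹ * x = x * (g * m * g⁻¹) := by
    intro m hm x hx
    obtain ⟨hxK, hxw⟩ := (memD x).1 hx
    have e1 : g⁻¹ * x * g ∈ K := by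
      have := hKn.conj_mem x hxK g⁻¹
      rwa [inv_inv] at this
    have e2 : (g⁻¹ * x * g) * t = t * (g⁻¹ * x * g) := by
      have e3 : t = g⁻¹ * w * g := by rw [← hg]; group
      calc (g⁻¹ * x * g) * t = g⁻¹ * (x * w) * g := by rw [e3]; group
        _ = t * (g⁻¹ * x * g) := by rw [hxw, e3]; group
    have e4 := h1 _ e1 e2 m hm
    calc g * m * g⁻¹ * x = g * (m * (g⁻¹ * x * g)) * g⁻¹ := by group
      _ = x * (g * m * g⁻¹) := by rw [e4]; group
  -- the action of `M` on `D` is that of a subgroup of `K`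
  let ι : ↥M →* ↥(normalizer (D : Set G)) := M.subtype.codRestrict _ fun m => hMN m.1 m.2
  have key : ∀ m : ↥M, (D.normalizerMonoidHom.comp ι) m = 1 := by
    refine eq_one_of_solvable hM _ ((K.subgroupOf (normalizer (D : Set G))).map D.normalizerMonoidHom)
      (solvable_map_subgroupOf K _ hKs _) ?_
    intro m
    have e1 : g⁻¹ * m.1 * g ∈ M ⊔ K := by
      have := hn.conj_mem m.1 (le_sup_left (a := M) (b := K) m.2) g⁻¹
      rwa [inv_inv] at this
    obtain ⟨m', hm', k', hk', e2⟩ := mem_sup_of_normal_right.1 e1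
    have e3 : m.1 = (g * m' * g⁻¹) * (g * k' * g⁻¹) := by
      calc m.1 = g * (g⁻¹ * m.1 * g) * g⁻¹ := by group
        _ = (g * m' * g⁻¹) * (g * k' * g⁻¹) := by rw [← e2]; group
    have e4 : g * m' * g⁻¹ ∈ normalizer (D : Set G) := by
      rw [mem_normalizer_iff]
      intro x
      have hcase : ∀ x, x ∈ D → g * m' * g⁻¹ * x * (g * m' * g⁻¹)⁻¹ = x := by
        intro x hx
        rw [hMg m' hm' x hx]
        group
      refine ⟨fun hx => by rw [hcase x hx]; exact hx, fun hx => ?_⟩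
      have e5 : (g * m' * g⁻¹)⁻¹ = g * m'⁻¹ * g⁻¹ := by group
      have e6 := hMg m'⁻¹ (M.inv_mem hm') _ hx
      rw [← e5] at e6
      have e7 : x = g * m' * g⁻¹ * x * (g * m' * g⁻¹)⁻¹ := by
        calc x = ((g * m' * g⁻¹)⁻¹ * (g * m' * g⁻¹ * x * (g * m' * g⁻¹)⁻¹)) * (g * m' * g⁻¹) := by group
          _ = g * m' * g⁻¹ * x * (g * m' * g⁻¹)⁻¹ := by rw [e6]; group
      rw [e7]
      exact hx
    have e5 : g * k' * g⁻¹ ∈ normalizer (D : Set G) := by
      have : g * k' * g⁻¹ = (g * m' * g⁻¹)⁻¹ * m.1 := by rw [e3]; group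
      rw [this]
      exact mul_mem (inv_mem e4) (hMN m.1 m.2)
    refine ⟨⟨g * k' * g⁻¹, e5⟩, ?_, ?_⟩
    · exact hKn.conj_mem k' hk' g
    · have e6 : ι m = ⟨g * m' * g⁻¹, e4⟩ * ⟨g * k' * g⁻¹, e5⟩ := Subtype.ext e3
      have e7 : D.normalizerMonoidHom ⟨g * m' * g⁻¹, e4⟩ = 1 := by
        rw [← MonoidHom.mem_ker, normalizerMonoidHom_ker, mem_subgroupOf, mem_centralizer_iff]
        intro x hx
        exact (hMg m' hm' x hx).symm
      rw [MonoidHom.comp_apply, e6, map_mul, e7, one_mul]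
  intro x hx
  rw [mem_centralizer_iff]
  intro m hm
  have h3 := key ⟨m, hm⟩
  have h4 := congrArg (fun f : MulAut ↥D => ((f ⟨x, hx⟩ : ↥D) : G)) h3
  have h5 : m * x * m⁻¹ = x := h4
  exact (mul_inv_eq_iff_eq_mul.1 h5)

/-- a perfect subgroup `M` with `M K` normal and `[M, K] = 1`, `K` solvable, is normal -/
theorem normal_of_comm (hM : Group.IsPerfect ↥M) (hKn : K.Normal) (hKs : Group.IsSolvable ↥K)
    (hn : (M ⊔ K).Normal) (hc : K ≤ centralizer (M : Set G)) : M.Normal := by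
  have hkm : ∀ k ∈ K, ∀ m ∈ M, m * k = k * m := fun k hk m hm => mem_centralizer_iff.1 (hc hk) m hm
  have hMn : (M.subgroupOf (M ⊔ K)).Normal := by
    refine ⟨fun x hx z => ?_⟩
    obtain ⟨m, hm, k, hk, e⟩ := mem_sup_of_normal_right.1 z.2
    rw [mem_subgroupOf] at hx ⊢
    have e1 := hkm k hk x.1 hx
    have e2 : ((z * x * z⁻¹ : ↥(M ⊔ K)) : G) = m * x.1 * m⁻¹ := by
      show z.1 * x.1 * z.1⁻¹ = _
      rw [← e]
      calc m * k * x.1 * (m * k)⁻¹ = m * (k * x.1) * k⁻¹ * m⁻¹ := by group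
        _ = m * x.1 * m⁻¹ := by rw [← e1]; group
    rw [e2]
    exact M.mul_mem (M.mul_mem hm hx) (M.inv_mem hm)
  refine ⟨fun m hm g => ?_⟩
  have hmem : ∀ x ∈ M, g * x * g⁻¹ ∈ M ⊔ K := fun x hx => hn.conj_mem x (le_sup_left (a := M) (b := K) hx) g
  let φ : ↥M →* ↥(M ⊔ K) ⧸ M.subgroupOf (M ⊔ K) :=
    (QuotientGroup.mk' _).comp (((MulAut.conj g).toMonoidHom.comp M.subtype).codRestrict _ fun m => hmem m.1 m.2)
  have key := eq_one_of_solvable hM φ ((K.subgroupOf (M ⊔ K)).map (QuotientGroup.mk' _))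
    (solvable_map_subgroupOf K _ hKs _) ?_ ⟨m, hm⟩
  · have h1 := (QuotientGroup.eq_one_iff _).1 key
    exact mem_subgroupOf.1 h1
  · intro x
    obtain ⟨m', hm', k', hk', e⟩ := mem_sup_of_normal_right.1 (hmem x.1 x.2)
    refine ⟨⟨k', le_sup_right (a := M) (b := K) hk'⟩, hk', ?_⟩
    show (QuotientGroup.mk _ : ↥(M ⊔ K) ⧸ M.subgroupOf (M ⊔ K)) = QuotientGroup.mk _
    rw [eq_comm, QuotientGroup.eq, mem_subgroupOf]
    show (g * x.1 * g⁻¹)⁻¹ * k' ∈ M
    rw [← e, show (m' * k')⁻¹ * k' = k'⁻¹ * (m'⁻¹ * k') by group, hkm k' hk' _ (M.inv_mem hm'), inv_mul_cancel_left]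
    exact M.inv_mem hm'

end

/-- **Piece 5b.** -/
theorem pB1b : Cfsg.Agent.H323.OI.PB1b := by
  intro G _ _ M t y hM _ _ _ htt hyy hty hc1 hc2 htM hyM hN hMK hn
  have hKn : (oddCore G).Normal := Cfsg.Agent.Lib.Cores.pPrimeCore_normal 2
  have hodd : Odd (Nat.card ↥(oddCore G)) :=
    Nat.coprime_two_right.1 (Cfsg.Agent.Lib.Cores.pPrimeCore_coprime 2)
  have hKs : Group.IsSolvable ↥(oddCore G) := Cfsg.Agent.S0205.result hodd
  have h1 : ∀ k ∈ oddCore G, k * t = t * k → ∀ m ∈ M, m * k = k * m := by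
    intro k hk hkt m hm
    have e1 : k * m * k⁻¹ * m⁻¹ ∈ M := M.mul_mem (hN k hkt m hm) (M.inv_mem hm)
    have e2 : k * m * k⁻¹ * m⁻¹ ∈ oddCore G := by
      rw [show k * m * k⁻¹ * m⁻¹ = k * (m * k⁻¹ * m⁻¹) by group]
      exact (oddCore G).mul_mem hk (hKn.conj_mem _ ((oddCore G).inv_mem hk) m)
    have e3 : k * m * k⁻¹ * m⁻¹ ∈ M ⊓ oddCore G := ⟨e1, e2⟩
    rw [hMK, mem_bot] at e3
    have e4 : k * m * k⁻¹ * m⁻¹ = 1 := e3
    calc m * k = 1 * (m * k) := by group
      _ = k * m := by rw [← e4]; group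
  have hcc : oddCore G ≤ centralizer (M : Set G) := by
    refine Cfsg.Agent.Lib.KleinGen.le_of_klein (oddCore G) _ hodd t y htt hyy hty
      (fun h hh => hKn.conj_mem h hh t) (fun h hh => hKn.conj_mem h hh y) ?_ ?_ ?_
    · exact cent_conj hM hKn hKs hn h1 (IsConj.refl t) htM
    · exact cent_conj hM hKn hKs hn h1 hc1 hyM
    · exact cent_conj hM hKn hKs hn h1 hc2 (mul_mem htM hyM)
  exact ⟨normal_of_comm hM hKn hKs hn hcc, hcc⟩

end Cfsg.Agent.H71.OI
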